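import Mathlib.RingTheory.Smooth.Local
import Mathlib.RingTheory.Smooth.Locus
import Mathlib.RingTheory.RingHom.Surjective
import Mathlib.RingTheory.Etale.Kaehler
import Mathlib.RingTheory.LocalRing.ResidueField.Ideal
import Mathlib.LinearAlgebra.Dimension.StrongRankCondition

/-!
# The Jacobian criterion for quotients of smooth algebras
-/

set_option autoImplicit false
set_option linter.style.haveILetI false
set_option backward.isDefEq.respectTransparency false
set_option backward.isDefEq.respectTransparency.types false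

universe u

open TensorProduct KaehlerDifferential IsLocalRing

namespace Groth.Agent.H9Jac

theorem ker_localRingHom {A : Type u} [CommRing A] (I : Ideal A) (P : Ideal (A ⧸ I)) [P.IsPrime] :
    RingHom.ker (Localization.localRingHom (P.comap (Ideal.Quotient.mk I)) P (Ideal.Quotient.mk I) rfl) =
      I.map (algebraMap A (Localization.AtPrime (P.comap (Ideal.Quotient.mk I)))) := by
  refine le_antisymm (fun x hx => ?_) (Ideal.map_le_iff_le_comap.2 fun a ha => ?_)
  · obtain ⟨a, s, rfl⟩ := IsLocalization.exists_mk'_eq (P.comap (Ideal.Quotient.mk I)).primeCompl x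
    rw [RingHom.mem_ker, Localization.localRingHom_mk', IsLocalization.mk'_eq_zero_iff] at hx
    obtain ⟨⟨c, hc⟩, hc'⟩ := hx
    obtain ⟨c, rfl⟩ := Ideal.Quotient.mk_surjective c
    rw [IsLocalization.mk'_mem_map_algebraMap_iff]
    exact ⟨c, hc, Ideal.Quotient.eq_zero_iff_mem.1 (by rw [map_mul]; exact hc')⟩
  · rw [Ideal.mem_comap, RingHom.mem_ker, Localization.localRingHom_to_map,
      Ideal.Quotient.eq_zero_iff_mem.2 ha, map_zero]

variable {R A : Type u} [CommRing R] [CommRing A] [IsNoetherianRing R] [Algebra R A] [Algebra.Smooth R A]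
  (I : Ideal A) (P : Ideal (A ⧸ I)) [P.IsPrime]

theorem main :
    letI q : Ideal A := P.comap (Ideal.Quotient.mk I)
    Algebra.IsSmoothAt R P ↔ ∃ s : Finset A, (↑s : Set A) ⊆ (I : Set A) ∧
      Ideal.map (algebraMap A (Localization.AtPrime q)) I =
        Ideal.span ((algebraMap A (Localization.AtPrime q)) '' (↑s : Set A)) ∧
      LinearIndependent q.ResidueField
        (fun g : ↥s => (1 : q.ResidueField) ⊗ₜ[A] KaehlerDifferential.D R A (g : A)) := by
  let q : Ideal A := P.comap (Ideal.Quotient.mk I)
  classical
  let B := Localization.AtPrime q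
  let S := Localization.AtPrime P
  let K := q.ResidueField
  let φ : B →+* S := Localization.localRingHom q P (Ideal.Quotient.mk I) rfl
  have hφ : ∀ a, φ (algebraMap A B a) = algebraMap (A ⧸ I) S (Ideal.Quotient.mk I a) := fun a =>
    Localization.localRingHom_to_map _ _ _ _ a
  letI : Algebra B S := φ.toAlgebra
  haveI : IsScalarTower R B S := IsScalarTower.of_algebraMap_eq fun r => by
    show _ = φ (algebraMap R B r)
    rw [IsScalarTower.algebraMap_apply R A B, hφ, IsScalarTower.algebraMap_apply R (A ⧸ I) S]
    rfl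
  have hsurj : Function.Surjective (algebraMap B S) :=
    RingHom.surjective_localRingHom_of_surjective _ Ideal.Quotient.mk_surjective P
  have hker : RingHom.ker (algebraMap B S) = I.map (algebraMap A B) := ker_localRingHom I P
  haveI : IsNoetherianRing A := Algebra.FiniteType.isNoetherianRing R A
  haveI : IsNoetherianRing B := IsLocalization.isNoetherianRing q.primeCompl B inferInstance
  haveI : Algebra.FormallyEtale A B := .of_isLocalization q.primeCompl
  haveI : Algebra.FormallySmooth R B := .comp R A B
  let eΩ := KaehlerDifferential.tensorKaehlerEquivOfFormallyEtale R A B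
  haveI : Module.Finite B Ω[B⁄R] := Module.Finite.equiv eΩ
  haveI : Module.Projective B Ω[B⁄R] := Module.Projective.of_equiv eΩ
  haveI : Module.Free B Ω[B⁄R] := Module.free_of_flat_of_isLocalRing
  -- the residue field of `B` as an `S`-algebra
  let τ₀ : A ⧸ I →+* K := Ideal.Quotient.lift I (algebraMap A K) fun a ha =>
    Ideal.algebraMap_residueField_eq_zero.2 (by
      show Ideal.Quotient.mk I a ∈ P
      rw [Ideal.Quotient.eq_zero_iff_mem.2 ha]
      exact P.zero_mem)
  let τ : S →+* K := IsLocalization.lift (M := P.primeCompl) (g := τ₀) fun ⟨y, hy⟩ => by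
    obtain ⟨a, rfl⟩ := Ideal.Quotient.mk_surjective y
    refine Ne.isUnit fun h => hy ?_
    exact (Ideal.algebraMap_residueField_eq_zero (I := q)).1 h
  letI : Algebra S K := τ.toAlgebra
  have hBK : (τ.comp φ) = algebraMap B K := IsLocalization.ringHom_ext q.primeCompl (RingHom.ext fun a => by
    show τ (φ (algebraMap A B a)) = algebraMap B K (algebraMap A B a)
    rw [hφ, IsLocalization.lift_eq, ← IsScalarTower.algebraMap_apply A B K]
    rfl)
  haveI : IsScalarTower B S K := IsScalarTower.of_algebraMap_eq fun b => (RingHom.congr_fun hBK b).symm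
  have hτ : Function.Surjective τ := fun y => by
    obtain ⟨b, hb⟩ := IsLocalRing.residue_surjective (R := B) y
    exact ⟨φ b, (RingHom.congr_fun hBK b).trans hb⟩
  have hm : maximalIdeal S ≤ RingHom.ker (algebraMap S K) :=
    (IsLocalRing.eq_maximalIdeal (RingHom.ker_isMaximal_of_surjective _ hτ)).ge
  have hfg : (RingHom.ker (algebraMap B S)).FG := IsNoetherian.noetherian _
  rw [show Algebra.IsSmoothAt R P = Algebra.FormallySmooth R S from rfl,
    Algebra.FormallySmooth.iff_injective_cotangentComplexBaseChange B K hsurj hfg hm]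
  -- transport of the differentials
  let e : K ⊗[B] Ω[B⁄R] ≃ₗ[K] K ⊗[A] Ω[A⁄R] :=
    (AlgebraTensorModule.congr (LinearEquiv.refl K K) eΩ.symm) ≪≫ₗ
      AlgebraTensorModule.cancelBaseChange A B K K Ω[A⁄R]
  let J := RingHom.ker (algebraMap B S)
  let v : ↥I → K ⊗[B] J := fun g => 1 ⊗ₜ ⟨algebraMap A B g, hker.ge (Ideal.mem_map_of_mem _ g.2)⟩
  let ψ : K ⊗[B] J →ₗ[K] K ⊗[B] Ω[B⁄R] := cotangentComplexBaseChange R S B K
  have hv : ∀ g : ↥I, e (ψ (v g)) = (1 : K) ⊗ₜ[A] D R A (g : A) := fun g => by
    have h1 : ψ (v g) = (1 : K) ⊗ₜ[B] D R B (algebraMap A B g) :=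
      (cotangentComplexBaseChange_tmul _ _).trans ((one_smul K _).trans rfl)
    rw [h1]
    simp only [e, LinearEquiv.trans_apply, AlgebraTensorModule.congr_tmul, LinearEquiv.refl_apply]
    rw [tensorKaehlerEquivOfFormallyEtale_symm_D_algebraMap, AlgebraTensorModule.cancelBaseChange_tmul,
      one_smul]
  have hvspan : Submodule.span K (Set.range v) = ⊤ := by
    refine eq_top_iff.2 fun z _ => ?_
    induction z with
    | zero => exact zero_mem _
    | add x y hx hy => exact add_mem (hx trivial) (hy trivial)
    | tmul c j =>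
      obtain ⟨j, hj⟩ := j
      have hgen : ∀ (y : B) (hy : y ∈ Submodule.span B (algebraMap A B '' (I : Set A))) (h : y ∈ J),
          (1 : K) ⊗ₜ[B] (⟨y, h⟩ : J) ∈ Submodule.span K (Set.range v) := by
        intro y hy
        induction hy using Submodule.span_induction with
        | mem x hx =>
          obtain ⟨a, ha, rfl⟩ := hx
          intro h
          exact Submodule.subset_span ⟨⟨a, ha⟩, rfl⟩
        | zero =>
          intro h
          rw [show (⟨0, h⟩ : J) = 0 from rfl, TensorProduct.tmul_zero]
          exact zero_mem _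
        | add x y hx hy ihx ihy =>
          intro h
          rw [show (⟨x + y, h⟩ : J) = ⟨x, hker.ge hx⟩ + ⟨y, hker.ge hy⟩ from rfl, TensorProduct.tmul_add]
          exact add_mem (ihx _) (ihy _)
        | smul b x hx ih =>
          intro h
          rw [show (⟨b • x, h⟩ : J) = b • (⟨x, hker.ge hx⟩ : J) from rfl, TensorProduct.tmul_smul,
            ← IsScalarTower.algebraMap_smul K b]
          exact Submodule.smul_mem _ _ (ih _)
      have := Submodule.smul_mem _ c (hgen j (hker.le hj) hj)
      rwa [TensorProduct.smul_tmul', smul_eq_mul, mul_one] at this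
  constructor
  · intro hinj
    obtain ⟨t, ht, hts, hti⟩ := exists_linearIndependent K (Set.range v)
    rw [hvspan] at hts
    haveI : Module.Finite B J := .of_fg hfg
    have htfin : t.Finite := hti.setFinite
    choose g hg using fun x : t => ht x.2
    haveI : Fintype t := htfin.fintype
    have hgv : Function.Injective (fun x : t => (g x : A)) := fun x y h => by
      have : v (g x) = v (g y) := congrArg v (Subtype.ext h)
      rw [hg, hg] at this
      exact Subtype.ext this
    refine ⟨Finset.univ.image fun x : t => (g x : A), ?_, ?_, ?_⟩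
    · rw [Finset.coe_image, Finset.coe_univ, Set.image_univ]
      rintro _ ⟨x, rfl⟩
      exact (g x).2
    · rw [Finset.coe_image, Finset.coe_univ, Set.image_univ, ← hker]
      let N : Submodule B B := Ideal.span (algebraMap A B '' Set.range fun x : t => (g x : A))
      have hNJ : N ≤ J := Ideal.span_le.2 (by
        rintro _ ⟨_, ⟨x, rfl⟩, rfl⟩
        exact hker.ge (Ideal.mem_map_of_mem _ (g x).2))
      refine le_antisymm ?_ hNJ
      let N' : Submodule B J := Submodule.comap J.subtype N
      have htop : N' = ⊤ := by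
        refine (IsLocalRing.map_tensorProduct_mk_eq_top (R := B) (M := J) (N := N')).1 ?_
        rw [eq_top_iff]
        have hres : Function.Surjective (algebraMap B K) := IsLocalRing.residue_surjective
        rw [← Submodule.restrictScalars_top B K (K ⊗[B] J), ← hts,
          Submodule.restrictScalars_span B K hres, Submodule.span_le]
        intro x hx
        refine ⟨⟨algebraMap A B (g ⟨x, hx⟩ : A), hker.ge (Ideal.mem_map_of_mem _ (g ⟨x, hx⟩).2)⟩, ?_, hg ⟨x, hx⟩⟩
        exact Ideal.subset_span ⟨_, ⟨⟨x, hx⟩, rfl⟩, rfl⟩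
      intro x hx
      have : (⟨x, hx⟩ : J) ∈ N' := htop ▸ Submodule.mem_top
      exact this
    · have hli : LinearIndependent K (fun x : t => (1 : K) ⊗ₜ[A] D R A (g x : A)) := by
        have h1 : LinearIndependent K (fun x : t => e (ψ (x : K ⊗[B] J))) :=
          hti.map' (e.toLinearMap ∘ₗ ψ) (LinearMap.ker_eq_bot.2 (e.injective.comp hinj))
        have h2 : (fun x : t => (1 : K) ⊗ₜ[A] D R A (g x : A)) = fun x : t => e (ψ (x : K ⊗[B] J)) :=
          funext fun x => by rw [← hv, hg]
        rw [h2]; exact h1
      let eq : t ≃ ↥(Finset.univ.image fun x : t => (g x : A)) :=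
        Equiv.ofBijective (fun x => ⟨g x, Finset.mem_image.2 ⟨x, Finset.mem_univ _, rfl⟩⟩)
          ⟨fun x y h => hgv (congrArg Subtype.val h :), fun y => by
            obtain ⟨x, -, hx⟩ := Finset.mem_image.1 y.2
            exact ⟨x, Subtype.ext hx⟩⟩
      exact (linearIndependent_equiv eq).1 hli
  · rintro ⟨s, hsI, hspan, hli⟩
    let w : ↥s → K ⊗[B] J := fun g => v ⟨g, hsI g.2⟩
    have hw : Submodule.span K (Set.range w) = ⊤ := by
      rw [eq_top_iff, ← hvspan, Submodule.span_le]
      rintro _ ⟨g, rfl⟩
      have hg : algebraMap A B g ∈ Ideal.span (algebraMap A B '' (↑s : Set A)) :=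
        hspan ▸ Ideal.mem_map_of_mem _ g.2
      have hgen : ∀ (y : B) (hy : y ∈ Ideal.span (algebraMap A B '' (↑s : Set A))) (h : y ∈ J),
          (1 : K) ⊗ₜ[B] (⟨y, h⟩ : J) ∈ Submodule.span K (Set.range w) := by
        intro y hy
        induction hy using Submodule.span_induction with
        | mem x hx =>
          obtain ⟨a, ha, rfl⟩ := hx
          intro h
          exact Submodule.subset_span ⟨⟨a, ha⟩, rfl⟩
        | zero =>
          intro h
          rw [show (⟨0, h⟩ : J) = 0 from rfl, TensorProduct.tmul_zero]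
          exact zero_mem _
        | add x y hx hy ihx ihy =>
          intro h
          have hxJ : x ∈ J := hker.ge (hspan.ge hx)
          have hyJ : y ∈ J := hker.ge (hspan.ge hy)
          rw [show (⟨x + y, h⟩ : J) = ⟨x, hxJ⟩ + ⟨y, hyJ⟩ from rfl, TensorProduct.tmul_add]
          exact add_mem (ihx _) (ihy _)
        | smul b x hx ih =>
          intro h
          have hxJ : x ∈ J := hker.ge (hspan.ge hx)
          rw [show (⟨b • x, h⟩ : J) = b • (⟨x, hxJ⟩ : J) from rfl, TensorProduct.tmul_smul,
            ← IsScalarTower.algebraMap_smul K b]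
          exact Submodule.smul_mem _ _ (ih _)
      exact hgen _ hg _
    rw [injective_iff_map_eq_zero]
    intro z hz
    obtain ⟨c, rfl⟩ := (Submodule.mem_span_range_iff_exists_fun K).1 (hw ▸ Submodule.mem_top : z ∈ _)
    have h0 : ∑ i, c i • ((1 : K) ⊗ₜ[A] D R A (i : A)) = 0 := by
      calc ∑ i, c i • ((1 : K) ⊗ₜ[A] D R A (i : A)) = e (ψ (∑ i, c i • w i)) := by
            simp only [map_sum, map_smul, w, hv]
        _ = 0 := by rw [show ψ (∑ i, c i • w i) = 0 from hz, map_zero]
    have := Fintype.linearIndependent_iff.1 hli c h0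
    simp [this]

end Groth.Agent.H9Jac
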